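import Cfsg.Agent.H378.RegE7
import Cfsg.Agent.H378.RootTor

/-!
# Row E7 of S4792: the lattice computations (helper724)

`w` = the product of the simple reflections `0 1 2 3 1 4 3 5` of `E7` (an element of order 9 of `W(E6)`, of characteristic
polynomial `Φ_1 Φ_9`). Each `w`-orbit on the 27 roots with last coefficient 1 spans the root lattice.

* `sr_mem` : a `w`-stable subgroup of `ℤ^7` containing one of the 27 roots is everything;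
* `chi_eq_one` : a character `χ` of `ℤ^7` with `χ (w x) = χ x ^ q` and `χ β = 1` for one of the 27 roots is trivial.
-/

set_option autoImplicit false

namespace Cfsg.Agent.H724.Conj.E7Tab

open CoxeterSystem Cfsg Cfsg.Lie Cfsg.Lie.ChevalleyDatum
open Cfsg.Agent.ChevalleyStructure Cfsg.Agent.ChevalleyStructure.Elts Cfsg.Agent.ChevalleyStructure.CoxeterGeom
  Cfsg.Agent.ChevalleyStructure.CoxeterGeomTypes Cfsg.Agent.ChevalleyStructure.NPerm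
  Cfsg.Agent.ChevalleyStructure.RootVec
open Cfsg.Agent.Tits.Roots Cfsg.Agent.Tits.Core Cfsg.Agent.Nodes Cfsg.Agent.Nodes.Reps Cfsg.Agent.Nodes.BNOf
  Cfsg.Agent.Nodes.RGDChev
open Cfsg.Agent.BpExc.RowsUntw
open Cfsg.Agent.H129.WData Cfsg.Agent.H378.CycTab Cfsg.Agent.H493.PGTorus Cfsg.Agent.H378.AdjE7
  Cfsg.Agent.H378.TorDual Cfsg.Agent.H378.TorChar

/-- the partial products of the word -/
def L9 : List (Fin 7 × Mat 7) := [
    (0, ![![0, 0, 1, 0, 0, 0, 0],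
      ![0, 0, 0, 0, 1, 0, 0],
      ![1, 1, 1, 2, 1, 0, 0],
      ![-1, 0, -1, -1, -1, 0, 0],
      ![1, 0, 1, 1, 1, 1, 0],
      ![-1, -1, -1, -1, -1, -1, 0],
      ![1, 1, 1, 1, 1, 1, 1]]),
    (1, ![![1, 0, 1, 0, 0, 0, 0],
      ![0, 0, 0, 0, 1, 0, 0],
      ![0, 1, 1, 2, 1, 0, 0],
      ![0, 0, -1, -1, -1, 0, 0],
      ![0, 0, 1, 1, 1, 1, 0],
      ![0, -1, -1, -1, -1, -1, 0],
      ![0, 1, 1, 1, 1, 1, 1]]),
    (2, ![![1, 0, 1, 0, 0, 0, 0],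
      ![0, 0, 0, 0, 1, 0, 0],
      ![0, 1, 1, 2, 1, 0, 0],
      ![0, -1, -1, -1, -1, 0, 0],
      ![0, 1, 1, 1, 1, 1, 0],
      ![0, 0, -1, -1, -1, -1, 0],
      ![0, 0, 1, 1, 1, 1, 1]]),
    (3, ![![1, 0, 0, 0, 0, 0, 0],
      ![0, 0, 0, 0, 1, 0, 0],
      ![0, 1, 1, 2, 1, 0, 0],
      ![0, -1, 0, -1, -1, 0, 0],
      ![0, 1, 0, 1, 1, 1, 0],
      ![0, 0, 0, -1, -1, -1, 0],
      ![0, 0, 0, 1, 1, 1, 1]]),
    (1, ![![1, 0, 0, 0, 0, 0, 0],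
      ![0, 0, 0, 1, 1, 0, 0],
      ![0, 1, 1, 1, 1, 0, 0],
      ![0, -1, 0, -1, -1, 0, 0],
      ![0, 1, 0, 1, 1, 1, 0],
      ![0, 0, 0, 0, -1, -1, 0],
      ![0, 0, 0, 0, 1, 1, 1]]),
    (4, ![![1, 0, 0, 0, 0, 0, 0],
      ![0, 1, 0, 1, 1, 0, 0],
      ![0, 0, 1, 1, 1, 0, 0],
      ![0, 0, 0, -1, -1, 0, 0],
      ![0, 0, 0, 1, 1, 1, 0],
      ![0, 0, 0, 0, -1, -1, 0],
      ![0, 0, 0, 0, 1, 1, 1]]),
    (3, ![![1, 0, 0, 0, 0, 0, 0],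
      ![0, 1, 0, 1, 0, 0, 0],
      ![0, 0, 1, 1, 0, 0, 0],
      ![0, 0, 0, -1, 0, 0, 0],
      ![0, 0, 0, 1, 1, 1, 0],
      ![0, 0, 0, 0, 0, -1, 0],
      ![0, 0, 0, 0, 0, 1, 1]]),
    (5, ![![1, 0, 0, 0, 0, 0, 0],
      ![0, 1, 0, 0, 0, 0, 0],
      ![0, 0, 1, 0, 0, 0, 0],
      ![0, 0, 0, 1, 0, 0, 0],
      ![0, 0, 0, 0, 1, 1, 0],
      ![0, 0, 0, 0, 0, -1, 0],
      ![0, 0, 0, 0, 0, 1, 1]])]

/-- the matrix of `w` -/
def Th : Mat 7 := ![![0, 0, 1, 0, 0, 0, 0],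
      ![0, 0, 0, 0, 1, 0, 0],
      ![1, 1, 1, 2, 1, 0, 0],
      ![-1, 0, -1, -1, -1, 0, 0],
      ![1, 0, 1, 1, 1, 1, 0],
      ![-1, -1, -1, -1, -1, -1, 0],
      ![1, 1, 1, 1, 1, 1, 1]]

/-- the eigenvector -/
def V9 : Fin (5 + 1) → Fin 7 → ℤ := ![![1, 1, 2, 2, 1, 0, 0],
      ![1, 0, 1, 0, 0, 0, 0],
      ![0, -1, -1, -2, -1, -1, 0],
      ![0, 0, 0, -1, -1, -1, 0],
      ![0, -1, -1, -2, -2, -1, 0],
      ![-1, -2, -2, -3, -2, -1, 0]]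

/-- the functional -/
def U9 : Fin 7 → ℤ := ![0, -1, 0, 1, 0, -1, 0]

/-- the orbits of the weights -/
def Vs : Fin 3 → Mat 7 := ![
  ![![0, 0, 0, 0, 0, 0, 1],
      ![1, 1, 1, 1, 1, 1, 1],
      ![1, 1, 2, 2, 2, 1, 1],
      ![2, 2, 3, 4, 3, 2, 1],
      ![1, 2, 3, 4, 3, 2, 1],
      ![1, 2, 2, 4, 3, 2, 1],
      ![0, 1, 1, 2, 2, 2, 1]],
  ![![0, 0, 0, 0, 1, 1, 1],
      ![1, 0, 1, 1, 1, 1, 1],
      ![1, 1, 2, 2, 1, 1, 1],
      ![1, 2, 2, 3, 2, 1, 1],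
      ![1, 2, 2, 3, 3, 2, 1],
      ![1, 1, 2, 3, 3, 2, 1],
      ![1, 1, 2, 3, 2, 2, 1]],
  ![![0, 0, 1, 1, 1, 1, 1],
      ![1, 1, 1, 2, 1, 1, 1],
      ![0, 1, 1, 1, 1, 1, 1],
      ![1, 1, 1, 2, 2, 1, 1],
      ![1, 1, 2, 2, 2, 2, 1],
      ![1, 1, 2, 3, 2, 1, 1],
      ![1, 2, 2, 3, 2, 2, 1]]]

/-- the inverse matrices -/
def Bs : Fin 3 → Mat 7 := ![
  ![![0, 0, 0, 1, -1, 0, 0],
      ![-1, 2, 0, -2, 1, 1, -1],
      ![0, 0, 0, 0, 1, -1, 0],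
      ![1, -1, -1, 1, 0, 0, 0],
      ![-1, 0, 2, -1, -1, 1, 0],
      ![0, 0, -1, 1, 0, -1, 1],
      ![1, 0, 0, 0, 0, 0, 0]],
  ![![-1, 2, -1, 0, 1, -1, 0],
      ![0, 0, 0, 0, 1, -1, 0],
      ![0, -1, 2, -1, 0, 1, -1],
      ![0, 0, -1, 1, -1, 0, 1],
      ![0, 0, 0, 0, 0, 1, -1],
      ![0, 0, 0, -1, 1, -1, 1],
      ![1, 0, 0, 1, -1, 0, 0]],
  ![![-1, 1, 0, 0, 1, 0, -1],
      ![-1, 0, 1, 0, 0, 0, 0],
      ![-1, 0, 1, -1, 1, 1, -1],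
      ![1, 0, -1, 0, -1, 0, 1],
      ![0, -1, 0, 1, 0, 0, 0],
      ![1, 0, -1, 0, 0, -1, 1],
      ![0, 1, 1, 0, 0, 0, -1]]]

/-- the image of a weight under `w` -/
def nx (r : ℕ) : ℕ := ([0, 0, 0, 0, 0, 0, 0, 0, 0, 0, 0, 0, 0, 0, 0, 0, 0, 0, 0, 0, 0, 0, 0, 0, 0, 0, 0, 0,
  0, 0, 0, 0, 0, 0, 0, 0, 0, 0, 0, 0, 0, 0, 0, 0, 0, 0, 0, 0, 0, 0, 0, 0, 0, 0, 0, 0, 0, 0, 0, 0, 0, 0, 0,
  102, 0, 63, 0, 0, 98, 0, 0, 0, 65, 0, 0, 0, 0, 105, 0, 0, 0, 0, 68, 0, 0, 0, 107, 0, 0, 82, 0, 108, 72, 0,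
  0, 0, 0, 0, 111, 0, 0, 0, 113, 0, 0, 86, 0, 114, 77, 0, 0, 120, 0, 125, 116, 0, 121, 89, 117, 0, 122, 91,
  118, 92, 123, 124] : List ℕ).getD r 0

/-- the distance to the first weight of the orbit -/
def dep (r : ℕ) : ℕ := ([0, 0, 0, 0, 0, 0, 0, 0, 0, 0, 0, 0, 0, 0, 0, 0, 0, 0, 0, 0, 0, 0, 0, 0, 0, 0, 0, 0,
  0, 0, 0, 0, 0, 0, 0, 0, 0, 0, 0, 0, 0, 0, 0, 0, 0, 0, 0, 0, 0, 0, 0, 0, 0, 0, 0, 0, 0, 0, 0, 0, 0, 0, 0, 0,
  0, 1, 0, 0, 0, 0, 0, 0, 2, 0, 0, 0, 0, 0, 0, 0, 0, 0, 1, 0, 0, 0, 7, 0, 0, 2, 0, 2, 3, 0, 0, 0, 0, 0, 8, 0,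
  0, 0, 8, 0, 0, 8, 0, 6, 1, 0, 0, 7, 0, 7, 5, 0, 4, 3, 4, 0, 6, 3, 5, 4, 5, 6] : List ℕ).getD r 0

theorem chain9 : ChainOK Am L9 := by decide +kernel

theorem hd9 : hd L9 = Th := rfl

theorem eig9 : EigOK Th c9 V9 U9 := by decide +kernel

theorem word9 : ∀ i ∈ L9.map Prod.fst, i ≠ 6 := by decide

/-- the rows of `Vs s` are the images of the first one -/
theorem vs_succ : ∀ (s : Fin 3) (i : Fin 6) (m : Fin 7), Vs s i.succ m = ∑ j, Vs s i.castSucc j * Th j m := by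
  decide +kernel

/-- the fundamental roots are combinations of the rows of `Vs s` -/
theorem bs_vs : ∀ (s : Fin 3) (j m : Fin 7), (if j = m then (1 : ℤ) else 0) = ∑ i, Bs s j i * Vs s i m := by
  decide +kernel

theorem orb_ok : ∀ r : Fin 126, rt chevE7 r 6 = 1 → (∃ s : Fin 3, ∀ i : Fin 7, rt chevE7 r i = Vs s 0 i) ∨
    (nx r < 126 ∧ dep (nx r) < dep r ∧ rt chevE7 (nx r) 6 = 1 ∧
      ∀ i : Fin 7, rt chevE7 (nx r) i = ∑ j : Fin 7, rt chevE7 r j * Th j i) := by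
  decide +kernel

/-- the last coefficient of a root is at most 1 -/
theorem last_le : ∀ r : Fin 126, rt chevE7 r 6 ≤ 1 := by decide +kernel

theorem nroots_E7 : chevE7.nroots = 126 := by decide +kernel

variable {W : Type*} [Group W] [Finite W] (cs : CoxeterSystem CoxeterMatrix.E₇ W)

/-- the element of order 9 -/
noncomputable def w9 : W := cs.wordProd (L9.map Prod.fst)

theorem rep_sr (j : Fin 7) : rep cs e7T.isCartan (w9 cs) (sr j) = Th j := chain_rep e7T cs hA chain9 j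

theorem rep_apply (x : Fin 7 → ℤ) (m : Fin 7) : rep cs e7T.isCartan (w9 cs) x m = ∑ j, x j * Th j m :=
  rep_apply_eq e7T cs (rep_sr cs) x m

theorem sum_sr' (v : Fin 7 → ℤ) : v = ∑ i, v i • (sr i : Fin 7 → ℤ) := sum_sr v

/-- the case of the first root of an orbit -/
theorem sr_mem_of_first {K : AddSubgroup (Fin 7 → ℤ)} (hK : ∀ x ∈ K, rep cs e7T.isCartan (w9 cs) x ∈ K)
    {s : Fin 3} (h : Vs s 0 ∈ K) (j : Fin 7) : (sr j : Fin 7 → ℤ) ∈ K := by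
  have h1 : ∀ i : Fin 7, Vs s i ∈ K := by
    intro i
    induction i using Fin.induction with
    | zero => exact h
    | succ i ih =>
      have h2 := hK _ ih
      have h3 : rep cs e7T.isCartan (w9 cs) (Vs s i.castSucc) = Vs s i.succ := by
        funext m
        rw [rep_apply, vs_succ]
      rwa [h3] at h2
  have h2 : (sr j : Fin 7 → ℤ) = ∑ i, Bs s j i • Vs s i := by
    funext m
    rw [Finset.sum_apply]
    have h3 := bs_vs s j m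
    simp only [Pi.smul_apply, smul_eq_mul]
    rw [← h3]
    by_cases hm : j = m
    · subst hm; rw [if_pos rfl, sr_self]
    · rw [if_neg hm, sr_ne (Ne.symm hm)]
  rw [h2]
  exact sum_mem fun i _ => K.zsmul_mem (h1 i) _

theorem sr_mem_aux {K : AddSubgroup (Fin 7 → ℤ)} (hK : ∀ x ∈ K, rep cs e7T.isCartan (w9 cs) x ∈ K) (n : ℕ) :
    ∀ r : ℕ, r < 126 → dep r = n → rt chevE7 r 6 = 1 → vec chevE7 7 r ∈ K → ∀ j : Fin 7, (sr j : Fin 7 → ℤ) ∈ K := by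
  induction n using Nat.strong_induction_on with
  | _ n ih =>
    intro r hr hn h6 hrK j
    rcases orb_ok ⟨r, hr⟩ h6 with ⟨s, hs⟩ | ⟨h1, h2, h3, h4⟩
    · refine sr_mem_of_first cs hK (s := s) ?_ j
      have e : vec chevE7 7 r = Vs s 0 := funext hs
      rwa [← e]
    · refine ih (dep (nx r)) (by rw [← hn]; exact h2) (nx r) h1 rfl h3 ?_ j
      have e : rep cs e7T.isCartan (w9 cs) (vec chevE7 7 r) = vec chevE7 7 (nx r) := by
        funext i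
        rw [rep_apply]
        exact (h4 i).symm
      rw [← e]
      exact hK _ hrK

/-- **A `w`-stable subgroup containing one of the 27 roots is everything.** -/
theorem sr_mem {K : AddSubgroup (Fin 7 → ℤ)} (hK : ∀ x ∈ K, rep cs e7T.isCartan (w9 cs) x ∈ K) {b : Fin 7 → ℤ}
    (hb : IsRoot cs e7T.isCartan b) (h6 : b 6 = 1) (hbK : b ∈ K) (j : Fin 7) : (sr j : Fin 7 → ℤ) ∈ K := by
  obtain ⟨r, hr, rfl⟩ := (isRoot_iff e7T cs b).1 hb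
  rw [nroots_E7] at hr
  exact sr_mem_aux cs hK _ r hr rfl h6 hbK j

theorem last_le' {b : Fin 7 → ℤ} (hb : IsRoot cs e7T.isCartan b) : b 6 ≤ 1 := by
  obtain ⟨r, hr, rfl⟩ := (isRoot_iff e7T cs b).1 hb
  rw [nroots_E7] at hr
  exact last_le ⟨r, hr⟩

universe u

/-- **A character in the kernel of `w - q` trivial on one of the 27 roots is trivial.** -/
theorem chi_eq_one {k : Type u} [Field k] {q : ℤ} {χ : Ch 7 k}
    (hχ : χ ∈ KerOf k (rep cs e7T.isCartan (w9 cs) - q • (1 : Module.End ℤ (Fin 7 → ℤ)))) {b : Fin 7 → ℤ}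
    (hb : IsRoot cs e7T.isCartan b) (h6 : b 6 = 1) (h1 : χ (Multiplicative.ofAdd b) = 1) : χ = 1 := by
  let K : AddSubgroup (Fin 7 → ℤ) :=
    { carrier := {x | χ (Multiplicative.ofAdd x) = 1}
      zero_mem' := by
        show χ (Multiplicative.ofAdd 0) = 1
        rw [ofAdd_zero, map_one]
      add_mem' := by
        intro x y hx hy
        show χ (Multiplicative.ofAdd (x + y)) = 1
        rw [ofAdd_add, map_mul]
        have hx' : χ (Multiplicative.ofAdd x) = 1 := hx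
        have hy' : χ (Multiplicative.ofAdd y) = 1 := hy
        rw [hx', hy', mul_one]
      neg_mem' := by
        intro x hx
        show χ (Multiplicative.ofAdd (-x)) = 1
        have hx' : χ (Multiplicative.ofAdd x) = 1 := hx
        rw [ofAdd_neg, map_inv, hx', inv_one] }
  have hK : ∀ x ∈ K, rep cs e7T.isCartan (w9 cs) x ∈ K := by
    intro x hx
    have hx' : χ (Multiplicative.ofAdd x) = 1 := hx
    have h2 := (mem_kerOf k).1 hχ x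
    have h3 : (rep cs e7T.isCartan (w9 cs) - q • (1 : Module.End ℤ (Fin 7 → ℤ))) x =
        rep cs e7T.isCartan (w9 cs) x - q • x := rfl
    rw [h3, ofAdd_sub, map_div, ofAdd_zsmul, map_zpow, hx', one_zpow, div_one] at h2
    exact h2
  refine ext_sr fun i => ?_
  exact sr_mem cs hK hb h6 (show b ∈ K from h1) i

end Cfsg.Agent.H724.Conj.E7Tab
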